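import Groth.Agent.H3CAlg.ArtinFlat
import Mathlib.RingTheory.HopkinsLevitzki
import Mathlib.RingTheory.LocalRing.Module
import Mathlib.RingTheory.Nakayama

/-! Deformations over Artinian rings of modules with only scalar endomorphisms. -/

set_option autoImplicit false
set_option linter.style.haveILetI false

universe u v w w'

open IsLocalRing

namespace Groth.Agent.H24Mod

variable {R : Type u} [CommRing R] [IsLocalRing R] [IsArtinianRing R]

theorem free_of_flat (F : Type v) [AddCommGroup F] [Module R F] [Module.Flat R F] : Module.Free R F := by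
  classical
  let k := IsLocalRing.ResidueField R
  have hmk : Function.Surjective (algebraMap R k) := Ideal.Quotient.mk_surjective
  let b := Module.Basis.ofVectorSpace k (TensorProduct R k F)
  choose d hd using fun i => TensorProduct.mk_surjective R F k hmk (b i)
  let ψ := Finsupp.linearCombination R d
  let bG := Algebra.TensorProduct.basis k (Finsupp.basisSingleOne (R := R)
    (ι := Module.Basis.ofVectorSpaceIndex k (TensorProduct R k F)))
  have hψ : ψ.baseChange k = (bG.equiv b (Equiv.refl _)).toLinearMap := by
    refine bG.ext fun i => ?_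
    rw [LinearEquiv.coe_coe, Module.Basis.equiv_apply, Equiv.refl_apply, ← hd i]
    simp [bG, ψ]
  have hψs : Function.Surjective (ψ.baseChange k) := by
    rw [hψ]; exact (bG.equiv b (Equiv.refl _)).surjective
  have hψi : Function.Injective (ψ.baseChange k) := by
    rw [hψ]; exact (bG.equiv b (Equiv.refl _)).injective
  have hs := Groth.Agent.H3CAlg.surjective_of_lTensor_quot (maximalIdeal R)
    Groth.Agent.H3CAlg.isNilpotent_maximalIdeal ψ hψs
  exact Module.Free.of_equiv (LinearEquiv.ofBijective ψ
    ⟨Groth.Agent.H3CAlg.injective_of_surjective_of_lTensor_quot (maximalIdeal R)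
      Groth.Agent.H3CAlg.isNilpotent_maximalIdeal ψ hs hψi, hs⟩)

theorem repr_mem {ι : Type w} {F : Type v} [AddCommGroup F] [Module R F] (b : Module.Basis ι R F)
    {J : Ideal R} {x : F} (hx : x ∈ (J • ⊤ : Submodule R F)) (i : ι) : b.repr x i ∈ J := by
  refine Submodule.smul_induction_on hx (fun r hr n _ => ?_) fun x y hx hy => ?_
  · rw [map_smul, Finsupp.smul_apply, smul_eq_mul]; exact J.mul_mem_right _ hr
  · rw [map_add, Finsupp.add_apply]; exact add_mem hx hy

variable {D : Type v} [Ring D] {E : Type w} [AddCommGroup E] [Module D E]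
  {F : Type w'} [AddCommGroup F] [Module R F] [Module D F] [SMulCommClass R D F] [Module.Flat R F]

theorem smul_mem_of_mem (d : D) {J : Ideal R} {x : F} (hx : x ∈ (J • ⊤ : Submodule R F)) :
    d • x ∈ (J • ⊤ : Submodule R F) := by
  refine Submodule.smul_induction_on hx (fun r hr n _ => ?_) fun x y hx hy => ?_
  · rw [← smul_comm]; exact Submodule.smul_mem_smul hr Submodule.mem_top
  · rw [smul_add]; exact add_mem hx hy

/-- If the endomorphisms of the special fibre are scalars, an endomorphism of the deformation landing
in `J • F` is multiplication by an element of `J`. -/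
theorem exists_eq_smul (θ : F →ₗ[D] E) (hsurj : Function.Surjective θ)
    (hker : ∀ x : F, θ x = 0 ↔ x ∈ maximalIdeal R • (⊤ : Submodule R F))
    (hE : ∀ ψ : E →ₗ[D] E, ∃ r : R, ∀ x y : F, ψ (θ x) = θ y → r • x - y ∈ maximalIdeal R • (⊤ : Submodule R F))
    (J : Ideal R) (φ : F →ₗ[R] F) (hφ : ∀ (d : D) (x : F), φ (d • x) = d • φ x)
    (hJ : ∀ x, φ x ∈ J • (⊤ : Submodule R F)) : ∃ r ∈ J, ∀ x : F, φ x = r • x := by
  classical
  haveI := free_of_flat (R := R) F
  let b := Module.Free.chooseBasis R F
  induction J using WellFoundedLT.induction generalizing φ with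
  | _ J IH =>
    by_cases hbot : J = ⊥
    · refine ⟨0, J.zero_mem, fun x => ?_⟩
      have := hJ x
      rw [hbot, Submodule.bot_smul, Submodule.mem_bot] at this
      rw [this, zero_smul]
    obtain ⟨J', hJ', hmax⟩ := set_has_maximal_iff_noetherian.mpr inferInstance {K : Ideal R | K < J}
      ⟨⊥, bot_lt_iff_ne_bot.mpr hbot⟩
    have hmJ : maximalIdeal R * J ≤ J' := by
      by_contra h
      have h1 : J' ⊔ maximalIdeal R * J = J :=
        ((sup_le hJ'.le Ideal.mul_le_right).lt_or_eq).resolve_left fun h2 => hmax _ h2 (left_lt_sup.mpr h)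
      have h2 : J ≤ J' := Submodule.le_of_le_smul_of_le_jacobson_bot (I := maximalIdeal R)
        (IsNoetherian.noetherian J) (IsLocalRing.maximalIdeal_le_jacobson _) (by rw [smul_eq_mul]; exact h1.ge)
      exact hJ'.not_ge h2
    obtain ⟨t, htJ, htJ'⟩ := SetLike.exists_of_lt (show J' < J from hJ')
    have hspan : J' ⊔ Ideal.span {t} = J := by
      refine ((sup_le hJ'.le ((Ideal.span_singleton_le_iff_mem J).mpr htJ)).lt_or_eq).resolve_left
        fun h2 => hmax _ h2 (left_lt_sup.mpr fun h => htJ' (h (Ideal.mem_span_singleton_self t)))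
    have hdec : ∀ x : F, x ∈ (J • ⊤ : Submodule R F) → ∃ y, x - t • y ∈ (J' • ⊤ : Submodule R F) := fun x hx => by
      rw [← hspan, Submodule.sup_smul] at hx
      obtain ⟨a, ha, c, hc, rfl⟩ := Submodule.mem_sup.mp hx
      rw [Submodule.ideal_span_singleton_smul] at hc
      obtain ⟨y, -, rfl⟩ := (Submodule.mem_smul_pointwise_iff_exists c t ⊤).mp hc
      exact ⟨y, by rwa [add_sub_cancel_right]⟩
    have hcancel : ∀ y : F, t • y ∈ (J' • ⊤ : Submodule R F) → θ y = 0 := fun y hy => by
      rw [hker, ← b.linearCombination_repr y, Finsupp.linearCombination_apply]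
      refine sum_mem fun i _ => Submodule.smul_mem_smul ((mem_maximalIdeal _).mpr fun hu => htJ' ?_) Submodule.mem_top
      have := repr_mem b hy i
      rw [map_smul, Finsupp.smul_apply, smul_eq_mul] at this
      exact (Ideal.mul_unit_mem_iff_mem J' hu).mp this
    have hwd : ∀ x y z : F, φ x - t • y ∈ (J' • ⊤ : Submodule R F) → φ x - t • z ∈ (J' • ⊤ : Submodule R F) →
        θ y = θ z := fun x y z hy hz => by
      rw [← sub_eq_zero, ← map_sub]
      refine hcancel _ ?_
      have := sub_mem hz hy
      rwa [sub_sub_sub_cancel_left, ← smul_sub] at this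
    have hm : ∀ x, θ x = 0 → φ x ∈ (J' • ⊤ : Submodule R F) := fun x hx => by
      rw [hker] at hx
      refine Submodule.smul_induction_on hx (fun r hr n _ => ?_) fun a c ha hc => ?_
      · rw [map_smul]
        refine Submodule.smul_induction_on (hJ n) (fun s hs m _ => ?_) fun a c ha hc => ?_
        · rw [smul_smul]; exact Submodule.smul_mem_smul (hmJ (Ideal.mul_mem_mul hr hs)) Submodule.mem_top
        · rw [smul_add]; exact add_mem ha hc
      · rw [map_add]; exact add_mem ha hc
    choose Y hY using fun x => hdec (φ x) (hJ x)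
    choose sec hsec using hsurj
    let G : E → E := fun e => θ (Y (sec e))
    have hG : ∀ x y, φ x - t • y ∈ (J' • ⊤ : Submodule R F) → G (θ x) = θ y := fun x y hy => by
      refine hwd x (Y (sec (θ x))) y ?_ hy
      have h1 := hm (x - sec (θ x)) (by rw [map_sub, hsec, sub_self])
      rw [map_sub] at h1
      have := add_mem h1 (hY (sec (θ x)))
      rwa [sub_add_sub_cancel] at this
    let ψ : E →ₗ[D] E :=
      { toFun := G
        map_add' := fun e e' => by
          have h := add_mem (hY (sec e)) (hY (sec e'))
          rw [sub_add_sub_comm, ← smul_add, ← map_add] at h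
          have := hG _ _ h
          rwa [map_add, hsec, hsec, map_add] at this
        map_smul' := fun d e => by
          have h := smul_mem_of_mem d (hY (sec e))
          rw [smul_sub, ← hφ, ← smul_comm] at h
          have := hG _ _ h
          rwa [map_smul, hsec, map_smul] at this }
    obtain ⟨r, hr⟩ := hE ψ
    have hnext : ∀ x, (φ - (t * r) • LinearMap.id : F →ₗ[R] F) x ∈ (J' • ⊤ : Submodule R F) := fun x => by
      have h1 := hr x (Y x) (hG x (Y x) (hY x))
      have h2 : t • (r • x - Y x) ∈ (J' • ⊤ : Submodule R F) := by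
        refine Submodule.smul_induction_on h1 (fun s hs m _ => ?_) fun a c ha hc => ?_
        · rw [smul_smul, mul_comm]
          exact Submodule.smul_mem_smul (hmJ (Ideal.mul_mem_mul hs htJ)) Submodule.mem_top
        · rw [smul_add]; exact add_mem ha hc
      have := sub_mem (hY x) h2
      rwa [smul_sub, sub_sub_sub_cancel_right, smul_smul] at this
    obtain ⟨s, hs, hs'⟩ := IH J' hJ' (φ - (t * r) • LinearMap.id) (fun d x => by
      simp only [LinearMap.sub_apply, LinearMap.smul_apply, LinearMap.id_apply, hφ, smul_sub, smul_comm (t * r) d x]) hnext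
    refine ⟨s + t * r, add_mem ((show J' ≤ J from le_of_lt hJ') hs) (J.mul_mem_right r htJ), fun x => ?_⟩
    have := hs' x
    rw [LinearMap.sub_apply, LinearMap.smul_apply, LinearMap.id_apply, sub_eq_iff_eq_add] at this
    rw [this, add_smul]

theorem eq_of_smul_eq [Nontrivial F] {r s : R} (h : ∀ x : F, r • x = s • x) : r = s := by
  haveI := free_of_flat (R := R) F
  let b := Module.Free.chooseBasis R F
  obtain ⟨i⟩ := b.index_nonempty
  simpa using congrArg (fun y => b.repr y i) (h (b i))

end Groth.Agent.H24Mod
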